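import Groth.Agent.DimFormulaLib.LocalDim
import Groth.Agent.DimFormulaLib.Chart
import Groth.Agent.SmoothSliceLib.Point

/-!
The relative dimension of a standard smooth algebra over a field equals the dimension of the components; a
transcendence bound for points on families of hyperplanes.
-/

set_option autoImplicit false
universe u
open TensorProduct KaehlerDifferential Module

namespace Groth.Agent.BertiniAff

variable (k : Type u) [Field k]

/-- The rank of differentials of a standard smooth algebra is the transcendence degree at its minimal primes. -/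
theorem trdeg_minimal {T : Type u} [CommRing T] [Algebra k T] [Algebra.IsStandardSmooth k T] {m : ℕ}
    (b : Basis (Fin m) T Ω[T⁄k]) (P : Ideal T) (hP : P ∈ minimalPrimes T) :
    Algebra.trdeg k (T ⧸ P) = m := by
  haveI : P.IsPrime := hP.1.1
  haveI : Nontrivial T := ⟨0, 1, fun h => (‹P.IsPrime›.ne_top) ((Ideal.eq_top_iff_one P).2 (h ▸ P.zero_mem))⟩
  obtain ⟨d, f, Dt, hDt, het⟩ := SmoothSliceLib.exists_coords_at (A := k) P
  let C := MvPolynomial (Fin d) k
  let U := Localization.Away Dt
  let φ : C →ₐ[k] U := MvPolynomial.aeval fun i => algebraMap T U (f i)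
  letI : Algebra C U := φ.toRingHom.toAlgebra
  haveI : IsScalarTower k C U := IsScalarTower.of_algHom φ
  haveI : Algebra.Etale C U := het
  have hd : Disjoint (Submonoid.powers Dt : Set T) P := Set.disjoint_left.2 fun x ⟨i, hi⟩ hx => hDt
    (‹P.IsPrime›.mem_of_pow_mem i (show Dt ^ i ∈ P by rwa [show Dt ^ i = x from hi]))
  let P' := P.map (algebraMap T U)
  haveI : P'.IsPrime := IsLocalization.isPrime_of_isPrime_disjoint _ _ P inferInstance hd
  have hc : P'.comap (algebraMap T U) = P := IsLocalization.under_map_of_isPrime_disjoint _ _ inferInstance hd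
  -- the minimal prime lies over the generic point of affine space
  have hover : P'.comap (algebraMap C U) = ⊥ := by
    by_contra hne
    have hlt : (⊥ : Ideal C) < P'.comap (algebraMap C U) := bot_lt_iff_ne_bot.2 hne
    haveI : P'.LiesOver (P'.comap (algebraMap C U)) := ⟨rfl⟩
    obtain ⟨Q, hQle, hQp, hQo⟩ := Ideal.exists_ideal_le_liesOver_of_le (p := (⊥ : Ideal C)) P' hlt.le
    haveI := hQp
    have hQP : Q = P' := by
      refine hQle.antisymm ?_
      have h1 : Q.comap (algebraMap T U) ≤ P := hc ▸ Ideal.comap_mono hQle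
      have h2 : P ≤ Q.comap (algebraMap T U) := hP.2 ⟨Ideal.IsPrime.comap _, bot_le⟩ h1
      rw [show P' = P.map (algebraMap T U) from rfl, Ideal.map_le_iff_le_comap]
      exact h2
    exact hlt.ne (hQo.over.trans (congrArg (Ideal.comap (algebraMap C U)) hQP))
  haveI : P'.LiesOver (⊥ : Ideal C) := ⟨hover.symm⟩
  haveI : Algebra.QuasiFiniteAt C P' := inferInstance
  letI := Localization.AtPrime.algebraOfLiesOver (⊥ : Ideal C) P'
  have h0 : Algebra.trdeg (C ⧸ (⊥ : Ideal C)) (U ⧸ P') = 0 := by
    rw [← DimFormulaLib.Chart.trdeg_primeResidueField (⊥ : Ideal C) P']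
    exact trdeg_eq_zero
  haveI : FaithfulSMul k (C ⧸ (⊥ : Ideal C)) := inferInstance
  haveI : IsScalarTower k (C ⧸ (⊥ : Ideal C)) (U ⧸ P') := IsScalarTower.of_algebraMap_eq (R := k) (S := C ⧸ (⊥ : Ideal C)) (A := U ⧸ P') fun a => by
    show Ideal.Quotient.mk P' (algebraMap k U a) = Ideal.Quotient.mk P' (algebraMap C U (algebraMap k C a))
    rw [← IsScalarTower.algebraMap_apply]
  have h1 : Algebra.trdeg k (U ⧸ P') = d := by
    rw [← trdeg_add_eq k (C ⧸ (⊥ : Ideal C)) (A := U ⧸ P'), h0, add_zero,
      trdeg_eq_of_bijective]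
  have h2 : Algebra.trdeg k (T ⧸ P) = Algebra.trdeg k (U ⧸ P') := by
    obtain ⟨n, hn⟩ := Cardinal.lt_aleph0.1 (trdeg_lt_aleph0_of_finiteType (R := k) (S := T ⧸ P))
    obtain ⟨P'', _, hc'', hn''⟩ := DimFormulaLib.trdeg_away k T hDt hn
    have : P'' = P' := by
      rw [← IsLocalization.map_under (Submonoid.powers Dt) (Localization.Away Dt) P'']
      exact congrArg (Ideal.map (algebraMap T U)) hc''
    subst this
    rw [hn, hn'']
  have hdm : d = m := by
    haveI : Nontrivial U := ⟨0, 1, fun h => (‹P'.IsPrime›.ne_top) ((Ideal.eq_top_iff_one P').2 (h ▸ P'.zero_mem))⟩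
    let bU : Basis (Fin m) U Ω[U⁄k] := (b.baseChange U).map (KaehlerDifferential.isBaseChange_of_formallyEtale k T U).equiv
    let bC : Basis (Fin d) U (U ⊗[C] Ω[C⁄k]) := (KaehlerDifferential.mvPolynomialBasis k (Fin d)).baseChange U
    let e : U ⊗[C] Ω[C⁄k] ≃ₗ[U] Ω[U⁄k] := (KaehlerDifferential.isBaseChange_of_formallyEtale k C U).equiv
    simpa using Fintype.card_congr ((bC.map e).indexEquiv bU)
  rw [h2, h1, hdm]
where
  trdeg_eq_of_bijective {k : Type u} [Field k] {d : ℕ} :
      Algebra.trdeg k (MvPolynomial (Fin d) k ⧸ (⊥ : Ideal (MvPolynomial (Fin d) k))) = d := by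
    rw [(AlgEquiv.quotientBot k (MvPolynomial (Fin d) k)).trdeg_eq, MvPolynomial.trdeg_of_isDomain]
    simp

/-- An `n + 1`-tuple generating a domain over `B` subject to linear equations of full rank `m + 1`. -/
theorem trdeg_le_of_equations {B D : Type u} [CommRing B] [IsDomain B] [CommRing D] [IsDomain D] [Algebra B D]
    (hinj : Function.Injective (algebraMap B D)) {n m : ℕ} (a : Fin (n + 1) → D)
    (hgen : Algebra.adjoin B (Set.range a) = ⊤) (M : Matrix (Fin (m + 1)) (Fin (n + 1)) B)
    (heq : ∀ l, ∑ i, algebraMap B D (M l i) * a i = 0)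
    (hfull : Submodule.span (FractionRing B) (Set.range fun i l => algebraMap B (FractionRing B) (M l i)) = ⊤) :
    ∃ t : ℕ, t + (m + 1) = n + 1 ∧ Algebra.trdeg B D ≤ t := by
  classical
  haveI : FaithfulSMul B D := (faithfulSMul_iff_algebraMap_injective B D).2 hinj
  let K := FractionRing B
  let col : Fin (n + 1) → (Fin (m + 1) → K) := fun i l => algebraMap B K (M l i)
  obtain ⟨t, hts, hsp, hli⟩ := exists_linearIndependent K (Set.range col)
  rw [show Submodule.span K (Set.range col) = ⊤ from hfull] at hsp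
  let bt : Basis t K (Fin (m + 1) → K) := Basis.mk hli (by rw [Subtype.range_coe, hsp])
  let σ : Fin (m + 1) ≃ t := (Pi.basisFun K (Fin (m + 1))).indexEquiv bt
  choose J hJ using fun l : Fin (m + 1) => hts (σ l).2
  have hJinj : Function.Injective J := fun l l' h => σ.injective (Subtype.ext (by rw [← hJ, ← hJ, h]))
  let S : Matrix (Fin (m + 1)) (Fin (m + 1)) B := M.submatrix id J
  have hdet : S.det ≠ 0 := by
    intro h0
    have hcols : LinearIndependent K fun l => col (J l) := by
      rw [show (fun l => col (J l)) = bt ∘ σ from funext fun l => by rw [Function.comp_apply, Basis.mk_apply]; exact hJ l]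
      exact bt.linearIndependent.comp _ σ.injective
    have hu : IsUnit ((algebraMap B K).mapMatrix S) := Matrix.linearIndependent_cols_iff_isUnit.1 hcols
    rw [Matrix.isUnit_iff_isUnit_det, ← RingHom.map_det, h0, map_zero] at hu
    exact not_isUnit_zero hu
  let Jc : Finset (Fin (n + 1)) := (Finset.univ.image J)ᶜ
  let R₀ := Algebra.adjoin B (a '' (Jc : Set (Fin (n + 1))))
  have hmem : ∀ l, algebraMap B D S.det * a (J l) ∈ R₀ := by
    intro l
    let rest : Fin (m + 1) → D := fun l => ∑ i ∈ Jc, algebraMap B D (M l i) * a i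
    have hrest : ∀ l, rest l ∈ R₀ := fun l => sum_mem fun i hi =>
      mul_mem (R₀.algebraMap_mem _) (Algebra.subset_adjoin ⟨i, hi, rfl⟩)
    have he : ((algebraMap B D).mapMatrix S).mulVec (fun l => a (J l)) = fun l => -rest l := by
      funext l
      have h := heq l
      rw [← Finset.sum_compl_add_sum (Finset.univ.image J), Finset.sum_image hJinj.injOn] at h
      rw [eq_neg_iff_add_eq_zero, add_comm]
      exact h
    have h2 := congrArg (((algebraMap B D).mapMatrix S).adjugate.mulVec) he
    rw [Matrix.mulVec_mulVec, Matrix.adjugate_mul, Matrix.smul_mulVec, Matrix.one_mulVec, ← RingHom.map_adjugate,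
      ← RingHom.map_det] at h2
    have h3 := congrFun h2 l
    simp only [Pi.smul_apply, smul_eq_mul] at h3
    rw [h3]
    simp only [Matrix.mulVec, dotProduct]
    exact sum_mem fun j _ => mul_mem (R₀.algebraMap_mem _) (neg_mem (hrest j))
  haveI : Algebra.IsAlgebraic R₀ D := by
    have halg : ∀ i, IsAlgebraic R₀ (a i) := fun i => by
      by_cases hi : i ∈ Jc
      · exact isAlgebraic_algebraMap (⟨a i, Algebra.subset_adjoin ⟨i, hi, rfl⟩⟩ : R₀)
      · obtain ⟨l, -, rfl⟩ := Finset.mem_image.1 (not_not.1 fun h => hi (Finset.mem_compl.2 h))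
        refine ⟨Polynomial.C (⟨algebraMap B D S.det, R₀.algebraMap_mem _⟩ : R₀) * Polynomial.X -
          Polynomial.C ⟨_, hmem l⟩, fun h => ?_, by simp [Subalgebra.algebraMap_mk]⟩
        have h1 := congrArg (fun p => Polynomial.coeff p 1) h
        simp only [Polynomial.coeff_sub, Polynomial.coeff_C_mul_X, Polynomial.coeff_C_ne_zero one_ne_zero, sub_zero,
          if_true, Polynomial.coeff_zero] at h1
        exact hdet (hinj (by rw [map_zero]; exact congrArg Subtype.val h1))
    refine ⟨fun x => ?_⟩
    have hx : x ∈ Algebra.adjoin B (Set.range a) := hgen ▸ trivial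
    induction hx using Algebra.adjoin_induction with
    | mem y hy => obtain ⟨i, rfl⟩ := hy; exact halg i
    | algebraMap b => exact isAlgebraic_algebraMap (⟨_, R₀.algebraMap_mem b⟩ : R₀)
    | add y z _ _ hy hz => exact hy.add hz
    | mul y z _ _ hy hz => exact hy.mul hz
  refine ⟨Jc.card, ?_, ?_⟩
  · rw [Finset.card_compl, Finset.card_image_of_injective _ hJinj]
    simp only [Fintype.card_fin, Finset.card_univ]
    have : m + 1 ≤ n + 1 := by simpa using Fintype.card_le_of_injective J hJinj
    omega
  · refine (Algebra.IsAlgebraic.trdeg_le_cardinalMk B (a '' (Jc : Set (Fin (n + 1))))).trans ?_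
    rw [show (a '' (Jc : Set (Fin (n + 1)))) = ↑(Jc.image a) by rw [Finset.coe_image]]
    erw [Cardinal.mk_coe_finset]
    exact_mod_cast Finset.card_image_le

end Groth.Agent.BertiniAff
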