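import Groth.Agent.BertiniAff.Dim
import Mathlib.RingTheory.RingHom.StandardSmooth
import Mathlib.AlgebraicGeometry.Morphisms.Smooth

/-!
Bertini for affine hyperplane sections: a general hyperplane cuts the smooth locus transversally.
-/

set_option autoImplicit false
set_option maxHeartbeats 600000
set_option backward.isDefEq.respectTransparency false
universe u
open TensorProduct KaehlerDifferential Module AlgebraicGeometry

namespace Groth.Agent.BertiniAff

variable (k : Type u) [Field k]

theorem isStandardSmoothOfRelativeDimension_mvPolynomial (n : ℕ) :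
    Algebra.IsStandardSmoothOfRelativeDimension n k (MvPolynomial (Fin n) k) := by
  haveI : Algebra.IsStandardSmooth k (MvPolynomial (Fin n) k) := by
    rw [Algebra.IsStandardSmooth.iff_exists_basis_kaehlerDifferential]
    refine ⟨inferInstance, _, KaehlerDifferential.mvPolynomialBasis k (Fin n), ?_⟩
    rintro _ ⟨i, rfl⟩
    exact ⟨MvPolynomial.X i, (KaehlerDifferential.mvPolynomialBasis_apply k (Fin n) i).symm⟩
  rw [Algebra.IsStandardSmoothOfRelativeDimension.iff_of_isStandardSmooth,
    rank_eq_card_basis (KaehlerDifferential.mvPolynomialBasis k (Fin n)), Fintype.card_fin]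

theorem bijective_mk_rename (n : ℕ) :
    Function.Bijective ((Ideal.Quotient.mk (Ideal.span {(MvPolynomial.X (0 : Fin (n + 1)) : MvPolynomial (Fin (n + 1)) k)})).comp
      (MvPolynomial.rename (Fin.succ : Fin n → Fin (n + 1))).toRingHom) := by
  let I : Ideal (MvPolynomial (Fin (n + 1)) k) := Ideal.span {MvPolynomial.X (0 : Fin (n + 1))}
  let ev : MvPolynomial (Fin (n + 1)) k →ₐ[k] MvPolynomial (Fin n) k := MvPolynomial.aeval (Fin.cases 0 MvPolynomial.X)
  have h1 : ∀ p, ev (MvPolynomial.rename Fin.succ p) = p := fun p => by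
    simp only [ev, MvPolynomial.aeval_rename, Function.comp_def, Fin.cases_succ]
    exact MvPolynomial.aeval_X_left_apply p
  have h2 : ∀ p ∈ I, ev p = 0 := fun p hp => by
    obtain ⟨q, rfl⟩ := Ideal.mem_span_singleton.1 hp
    simp [ev]
  refine ⟨fun p q hpq => ?_, fun z => ?_⟩
  · rw [RingHom.comp_apply, RingHom.comp_apply, Ideal.Quotient.eq] at hpq
    have h := h2 _ hpq
    rw [map_sub] at h
    exact ((h1 p).symm.trans (sub_eq_zero.1 h)).trans (h1 q)
  · obtain ⟨p, rfl⟩ := Ideal.Quotient.mk_surjective z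
    refine ⟨ev p, ?_⟩
    rw [RingHom.comp_apply, Ideal.Quotient.eq]
    show MvPolynomial.rename Fin.succ (ev p) - p ∈ I
    induction p using MvPolynomial.induction_on with
    | C c => simp [ev]
    | add p q hp hq =>
      rw [map_add, map_add, add_sub_add_comm]
      exact add_mem hp hq
    | mul_X p i hp =>
      rw [map_mul, map_mul]
      cases i using Fin.cases with
      | zero =>
        have e : ev (MvPolynomial.X (0 : Fin (n + 1))) = 0 := by simp [ev]
        rw [e, map_zero, mul_zero, zero_sub]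
        exact neg_mem (I.mul_mem_left _ (Ideal.subset_span rfl))
      | succ j =>
        have e : MvPolynomial.rename Fin.succ (ev (MvPolynomial.X j.succ)) = MvPolynomial.X j.succ := by simp [ev]
        rw [e, ← sub_mul]
        exact I.mul_mem_right _ hp

/-- Cutting a standard smooth algebra by an element with nonvanishing differential. -/
theorem exists_smooth_section {T : Type u} [CommRing T] [Algebra k T] [Algebra.IsStandardSmooth k T] {n : ℕ}
    (b : Basis (Fin (n + 1)) T Ω[T⁄k]) (Q : Ideal T) [Q.IsPrime] (s : T)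
    (hd : (1 : Q.ResidueField) ⊗ₜ[T] D k T s ≠ 0) :
    ∃ g : T, g ∉ Q ∧ Algebra.IsStandardSmoothOfRelativeDimension n k
      (Localization.Away g ⧸ Ideal.span {algebraMap T (Localization.Away g) s}) := by
  classical
  let K := Q.ResidueField
  let v : T → K ⊗[T] Ω[T⁄k] := fun r => (1 : K) ⊗ₜ[T] D k T r
  have hspan : Submodule.span K (Set.range v) = ⊤ := by
    rw [eq_top_iff, ← (b.baseChange K).span_eq, Submodule.span_le]
    rintro _ ⟨i, rfl⟩
    rw [Basis.baseChange_apply, SetLike.mem_coe]
    suffices h : ∀ w : Ω[T⁄k], (1 : K) ⊗ₜ[T] w ∈ Submodule.span K (Set.range v) from h _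
    intro w
    have hw : w ∈ Submodule.span T (Set.range (D k T)) := KaehlerDifferential.span_range_derivation k T ▸ trivial
    induction hw using Submodule.span_induction with
    | mem x hx => obtain ⟨r, rfl⟩ := hx; exact Submodule.subset_span ⟨r, rfl⟩
    | zero => rw [TensorProduct.tmul_zero]; exact zero_mem _
    | add x y _ _ hx hy => rw [TensorProduct.tmul_add]; exact add_mem hx hy
    | smul c x _ hx =>
      rw [TensorProduct.tmul_smul, ← algebraMap_smul K c]
      exact Submodule.smul_mem _ _ hx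
  have hls : LinearIndepOn K id ({v s} : Set (K ⊗[T] Ω[T⁄k])) :=
    LinearIndepOn.singleton (by simpa [v] using hd)
  let t := hls.extend (Set.singleton_subset_iff.2 ⟨s, rfl⟩ : ({v s} : Set _) ⊆ Set.range v)
  have htv : t ⊆ Set.range v := hls.extend_subset _
  have hst : v s ∈ t := hls.subset_extend _ rfl
  let b₀ : Basis t K (K ⊗[T] Ω[T⁄k]) := Basis.mk (hls.linearIndepOn_extend _) (by
    rw [show Set.range (fun x : t => id (x : K ⊗[T] Ω[T⁄k])) = t from Subtype.range_coe, ← hspan]
    exact Submodule.span_le.2 (hls.subset_span_extend _))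
  let σ₀ := (b.baseChange K).indexEquiv b₀
  let σ : Fin (n + 1) ≃ t := (Equiv.swap 0 (σ₀.symm ⟨v s, hst⟩)).trans σ₀
  have hσ : σ 0 = ⟨v s, hst⟩ := by simp [σ]
  choose f hf using fun i => htv (σ i).2
  let f' : Fin (n + 1) → T := Function.update f 0 s
  have hf' : ∀ i, v (f' i) = (σ i : K ⊗[T] Ω[T⁄k]) := fun i => by
    rcases eq_or_ne i 0 with rfl | hi
    · simp [f', hσ]
    · simp [f', hi, hf]
  have hlf : LinearIndependent K fun i => (1 : K) ⊗ₜ[T] D k T (f' i) := by
    rw [show (fun i => (1 : K) ⊗ₜ[T] D k T (f' i)) = b₀ ∘ σ from funext fun i => by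
      rw [Function.comp_apply, Basis.mk_apply]; exact hf' i]
    exact b₀.linearIndependent.comp _ σ.injective
  obtain ⟨Dt, hDt, het⟩ := SmoothSliceLib.exists_etale_coords b K f' hlf
  refine ⟨Dt, fun h => hDt (Ideal.algebraMap_residueField_eq_zero.2 h), ?_⟩
  let U := Localization.Away Dt
  let φ : MvPolynomial (Fin (n + 1)) k →ₐ[k] U := MvPolynomial.aeval fun i => algebraMap T U (f' i)
  letI : Algebra (MvPolynomial (Fin (n + 1)) k) U := φ.toRingHom.toAlgebra
  haveI : Algebra.Etale (MvPolynomial (Fin (n + 1)) k) U := het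
  let C₀ := MvPolynomial (Fin n) k
  let c : C₀ →+* MvPolynomial (Fin (n + 1)) k := (MvPolynomial.rename (Fin.succ : Fin n → Fin (n + 1))).toRingHom
  letI : Algebra C₀ U := (φ.toRingHom.comp c).toAlgebra
  have h1 : Algebra.Etale C₀ (U ⧸ (Ideal.span {(MvPolynomial.X (0 : Fin (n + 1)) : MvPolynomial (Fin (n + 1)) k)}).map
      (algebraMap (MvPolynomial (Fin (n + 1)) k) U)) :=
    SmoothSliceLib.etale_quot c rfl _ (bijective_mk_rename k n)
  have hI : (Ideal.span {(MvPolynomial.X (0 : Fin (n + 1)) : MvPolynomial (Fin (n + 1)) k)}).map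
      (algebraMap (MvPolynomial (Fin (n + 1)) k) U) = Ideal.span {algebraMap T U s} := by
    rw [Ideal.map_span, Set.image_singleton]
    congr 2
    show φ (MvPolynomial.X 0) = _
    rw [MvPolynomial.aeval_X]
    simp [f']
  rw [hI] at h1
  haveI : IsScalarTower k C₀ (U ⧸ Ideal.span {algebraMap T U s}) := IsScalarTower.of_algebraMap_eq (R := k) (S := C₀) (A := U ⧸ Ideal.span {algebraMap T U s}) fun a => by
    show Ideal.Quotient.mk _ (algebraMap k U a) = Ideal.Quotient.mk _ (φ (MvPolynomial.rename Fin.succ (MvPolynomial.C a)))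
    rw [MvPolynomial.rename_C, MvPolynomial.algHom_C]
  haveI := isStandardSmoothOfRelativeDimension_mvPolynomial k n
  haveI : Algebra.IsStandardSmoothOfRelativeDimension 0 C₀ (U ⧸ Ideal.span {algebraMap T U s}) :=
    Algebra.Etale.iff_isStandardSmoothOfRelativeDimension_zero.1 h1
  have := Algebra.IsStandardSmoothOfRelativeDimension.trans (n := n) (m := 0) k C₀ (U ⧸ Ideal.span {algebraMap T U s})
  rwa [zero_add] at this

/-- The dimension count. -/
theorem absurd_of_equations {B E : Type u} [CommRing B] [IsDomain B] [CommRing E] [IsDomain E] [Algebra k B]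
    [Algebra k E] [Algebra B E] [IsScalarTower k B E] {r : ℕ} (hB : Algebra.trdeg k B ≤ (r : Cardinal))
    (hinj : Function.Injective (algebraMap B E)) {n : ℕ} (a : Fin (n + 1) → E)
    (hgen : Algebra.adjoin B (Set.range a) = ⊤) (M : Matrix (Fin (r + 1)) (Fin (n + 1)) B)
    (heq : ∀ l, ∑ i, algebraMap B E (M l i) * a i = 0)
    (hfull : Submodule.span (FractionRing B) (Set.range fun i l => algebraMap B (FractionRing B) (M l i)) = ⊤)
    (hlow : ((n + 1 : ℕ) : Cardinal) ≤ Algebra.trdeg k E) : False := by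
  obtain ⟨t, ht, htd⟩ := trdeg_le_of_equations hinj a hgen M heq hfull
  haveI : FaithfulSMul B E := (faithfulSMul_iff_algebraMap_injective B E).2 hinj
  rw [← trdeg_add_eq k B (A := E)] at hlow
  have := hlow.trans (add_le_add hB htd)
  norm_cast at this
  omega

/-- A prime avoiding the constant polynomials cannot contain the incidence equations. -/
theorem false_of_prime {T : Type u} [CommRing T] [Algebra k T] {n r : ℕ} (ξ : Fin n → T)
    (b : Basis (Fin r) T Ω[T⁄k])
    (hspanD : ∀ w : Ω[T⁄k], w ∈ Submodule.span T (Set.range fun i => D k T (ξ i)))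
    (hbound : ∀ P : Ideal T, P.IsPrime → Algebra.trdeg k (T ⧸ P) ≤ (r : Cardinal))
    (𝔓 : Ideal (MvPolynomial (Fin (n + 1)) T)) [𝔓.IsPrime]
    (hJ : insert (MvPolynomial.X 0 + ∑ i : Fin n, MvPolynomial.C (ξ i) * MvPolynomial.X i.succ)
        (Set.range fun l : Fin r => ∑ i : Fin n, MvPolynomial.C (b.repr (D k T (ξ i)) l) * MvPolynomial.X i.succ) ⊆ (𝔓 : Set (MvPolynomial (Fin (n + 1)) T)))
    (h𝔔0 : ∀ g, MvPolynomial.map (algebraMap k T) g ∈ 𝔓 → g = 0) : False := by
  classical
  let L : MvPolynomial (Fin (n + 1)) T := MvPolynomial.X 0 + ∑ i : Fin n, MvPolynomial.C (ξ i) * MvPolynomial.X i.succ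
  let cl : Fin r → MvPolynomial (Fin (n + 1)) T := fun l => ∑ i : Fin n, MvPolynomial.C (b.repr (D k T (ξ i)) l) * MvPolynomial.X i.succ
  let J : Ideal (MvPolynomial (Fin (n + 1)) T) := Ideal.span (insert L (Set.range cl))
  let ι₀ : MvPolynomial (Fin (n + 1)) k →+* MvPolynomial (Fin (n + 1)) T := MvPolynomial.map (algebraMap k T)
  have hJP : J ≤ 𝔓 := Ideal.span_le.2 hJ
  haveI : (𝔓.under T).IsPrime := Ideal.IsPrime.comap _
  have hinjBE : Function.Injective (algebraMap (T ⧸ 𝔓.under T) (MvPolynomial (Fin (n + 1)) T ⧸ 𝔓)) := FaithfulSMul.algebraMap_injective _ _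
  let aa : Fin (n + 1) → (MvPolynomial (Fin (n + 1)) T ⧸ 𝔓) := fun i => Ideal.Quotient.mk 𝔓 (MvPolynomial.X i)
  have hgen : Algebra.adjoin (T ⧸ 𝔓.under T) (Set.range aa) = ⊤ := by
    rw [eq_top_iff]
    rintro z -
    obtain ⟨p, rfl⟩ := Ideal.Quotient.mk_surjective z
    induction p using MvPolynomial.induction_on with
    | C c => exact Subalgebra.algebraMap_mem _ (Ideal.Quotient.mk (𝔓.under T) c)
    | add p q hp hq => rw [map_add]; exact add_mem hp hq
    | mul_X p i hp => rw [map_mul]; exact mul_mem hp (Algebra.subset_adjoin ⟨i, rfl⟩)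
  let M : Matrix (Fin (r + 1)) (Fin (n + 1)) (T ⧸ 𝔓.under T) := fun l i => Ideal.Quotient.mk (𝔓.under T)
    (Fin.cases (Fin.cases (1 : T) ξ i) (fun l => Fin.cases (0 : T) (fun i => b.repr (D k T (ξ i)) l) i) l)
  have heq : ∀ l, ∑ i, algebraMap (T ⧸ 𝔓.under T) (MvPolynomial (Fin (n + 1)) T ⧸ 𝔓) (M l i) * aa i = 0 := by
    intro l
    have key : ∀ w : Fin (n + 1) → T, (∑ i, MvPolynomial.C (w i) * MvPolynomial.X i) ∈ J →
        ∑ i, algebraMap (T ⧸ 𝔓.under T) (MvPolynomial (Fin (n + 1)) T ⧸ 𝔓) (Ideal.Quotient.mk (𝔓.under T) (w i)) * aa i = 0 := fun w hw => by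
      have := Ideal.Quotient.eq_zero_iff_mem.2 (hJP hw)
      rw [map_sum] at this
      refine Eq.trans (Finset.sum_congr rfl fun i _ => ?_) this
      rw [map_mul]
      rfl
    refine key _ ?_
    rw [Fin.sum_univ_succ]
    cases l using Fin.cases with
    | zero => simpa [L] using Ideal.subset_span (Set.mem_insert L (Set.range cl))
    | succ l => simpa [cl] using Ideal.subset_span (Set.mem_insert_of_mem L ⟨l, rfl⟩ : cl l ∈ insert L (Set.range cl))
  have hfull : Submodule.span (FractionRing (T ⧸ 𝔓.under T)) (Set.range fun i l => algebraMap (T ⧸ 𝔓.under T) (FractionRing (T ⧸ 𝔓.under T)) (M l i)) = ⊤ := by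
    let Kf := FractionRing (T ⧸ 𝔓.under T)
    let col : Fin (n + 1) → (Fin (r + 1) → Kf) := fun i l => algebraMap (T ⧸ 𝔓.under T) Kf (M l i)
    let S := Submodule.span Kf (Set.range col)
    let ev : T →+* Kf := (algebraMap (T ⧸ 𝔓.under T) Kf).comp (Ideal.Quotient.mk (𝔓.under T))
    have h0 : Pi.single 0 1 ∈ S := by
      have h0' : col 0 ∈ S := Submodule.subset_span (Set.mem_range_self 0)
      convert h0' using 1
      funext l
      cases l using Fin.cases <;> simp [col, M]
    have htail : ∀ w : Ω[T⁄k], (Fin.cons 0 (fun l => ev (b.repr w l)) : Fin (r + 1) → Kf) ∈ S := by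
      intro w
      have hw := hspanD w
      induction hw using Submodule.span_induction with
      | mem y hy =>
        obtain ⟨i, rfl⟩ := hy
        have h1 : col i.succ ∈ S := Submodule.subset_span (Set.mem_range_self i.succ)
        have h2 := sub_mem h1 (Submodule.smul_mem S (ev (ξ i)) h0)
        convert h2 using 1
        funext l
        cases l using Fin.cases <;> simp [col, M, ev, Algebra.algebraMap_eq_smul_one]
      | zero => convert S.zero_mem using 1; funext l; cases l using Fin.cases <;> simp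
      | add y z _ _ hy hz =>
        convert add_mem hy hz using 1
        funext l; cases l using Fin.cases <;> simp
      | smul c y _ hy =>
        convert Submodule.smul_mem S (ev c) hy using 1
        funext l; cases l using Fin.cases <;> simp
    rw [eq_top_iff, ← (Pi.basisFun Kf (Fin (r + 1))).span_eq, Submodule.span_le]
    rintro _ ⟨l, rfl⟩
    rw [Pi.basisFun_apply]
    cases l using Fin.cases with
    | zero => exact h0
    | succ l =>
      show Pi.single l.succ 1 ∈ S
      convert htail (b l) using 1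
      funext l'
      cases l' using Fin.cases <;> simp [ev, Finsupp.single_apply, Pi.single_apply, eq_comm]
  have hlow : ((n + 1 : ℕ) : Cardinal) ≤ Algebra.trdeg k (MvPolynomial (Fin (n + 1)) T ⧸ 𝔓) := by
    let χ : MvPolynomial (Fin (n + 1)) k →ₐ[k] (MvPolynomial (Fin (n + 1)) T ⧸ 𝔓) := MvPolynomial.aeval aa
    have hχ : Function.Injective χ := by
      refine (injective_iff_map_eq_zero _).2 fun g hg => ?_
      have e : χ g = Ideal.Quotient.mk 𝔓 (ι₀ g) := by
        have : (χ : MvPolynomial (Fin (n + 1)) k →+* (MvPolynomial (Fin (n + 1)) T ⧸ 𝔓)) = (Ideal.Quotient.mk 𝔓).comp ι₀ :=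
          MvPolynomial.ringHom_ext (fun c => by
            rw [RingHom.comp_apply, RingHom.coe_coe]
            erw [MvPolynomial.aeval_C, MvPolynomial.map_C]
            rfl) (fun i => by simp [χ, aa, ι₀])
        exact RingHom.congr_fun this g
      rw [e, Ideal.Quotient.eq_zero_iff_mem] at hg
      exact h𝔔0 g hg
    simpa using trdeg_le_of_injective χ hχ
  exact absurd_of_equations k (hbound (𝔓.under T) inferInstance) hinjBE aa hgen M heq hfull hlow

/-- The incidence ideal meets the polynomials with constant coefficients. -/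
theorem exists_mem_incidence {T : Type u} [CommRing T] [Algebra k T] {n r : ℕ} (ξ : Fin n → T)
    (b : Basis (Fin r) T Ω[T⁄k])
    (hspanD : ∀ w : Ω[T⁄k], w ∈ Submodule.span T (Set.range fun i => D k T (ξ i)))
    (hbound : ∀ P : Ideal T, P.IsPrime → Algebra.trdeg k (T ⧸ P) ≤ (r : Cardinal)) :
    ∃ g : MvPolynomial (Fin (n + 1)) k, g ≠ 0 ∧ MvPolynomial.map (algebraMap k T) g ∈
      Ideal.span (insert (MvPolynomial.X 0 + ∑ i : Fin n, MvPolynomial.C (ξ i) * MvPolynomial.X i.succ)
        (Set.range fun l : Fin r => ∑ i : Fin n, MvPolynomial.C (b.repr (D k T (ξ i)) l) * MvPolynomial.X i.succ)) := by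
  classical
  let L : MvPolynomial (Fin (n + 1)) T := MvPolynomial.X 0 + ∑ i : Fin n, MvPolynomial.C (ξ i) * MvPolynomial.X i.succ
  let cl : Fin r → MvPolynomial (Fin (n + 1)) T := fun l => ∑ i : Fin n, MvPolynomial.C (b.repr (D k T (ξ i)) l) * MvPolynomial.X i.succ
  let J : Ideal (MvPolynomial (Fin (n + 1)) T) := Ideal.span (insert L (Set.range cl))
  let ι₀ : MvPolynomial (Fin (n + 1)) k →+* MvPolynomial (Fin (n + 1)) T := MvPolynomial.map (algebraMap k T)
  show ∃ g, g ≠ 0 ∧ ι₀ g ∈ J
  by_contra hcon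
  have hker : Function.Injective ((Ideal.Quotient.mk J).comp ι₀) := (injective_iff_map_eq_zero _).2 fun g hg =>
    not_not.1 fun hg0 => hcon ⟨g, hg0, Ideal.Quotient.eq_zero_iff_mem.1 hg⟩
  let Sm : Submonoid (MvPolynomial (Fin (n + 1)) T ⧸ J) := (nonZeroDivisors (MvPolynomial (Fin (n + 1)) k)).map ((Ideal.Quotient.mk J).comp ι₀)
  have hd : Disjoint ((⊥ : Ideal (MvPolynomial (Fin (n + 1)) T ⧸ J)) : Set (MvPolynomial (Fin (n + 1)) T ⧸ J)) (Sm : Set (MvPolynomial (Fin (n + 1)) T ⧸ J)) :=
    Set.disjoint_left.2 fun z hz hz' => by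
      obtain ⟨g, hg, rfl⟩ := hz'
      exact nonZeroDivisors.ne_zero hg (hker (by rw [map_zero]; exact hz))
  obtain ⟨𝔔, h𝔔, -, h𝔔d⟩ : ∃ 𝔔 : Ideal (MvPolynomial (Fin (n + 1)) T ⧸ J), 𝔔.IsPrime ∧ ⊥ ≤ 𝔔 ∧
      Disjoint (𝔔 : Set (MvPolynomial (Fin (n + 1)) T ⧸ J)) (Sm : Set (MvPolynomial (Fin (n + 1)) T ⧸ J)) :=
    Ideal.exists_le_prime_disjoint (α := MvPolynomial (Fin (n + 1)) T ⧸ J) ⊥ Sm hd
  have h𝔔0 : ∀ g, (Ideal.Quotient.mk J).comp ι₀ g ∈ 𝔔 → g = 0 := fun g hg => not_not.1 fun hg0 =>
    Set.disjoint_left.1 h𝔔d hg ⟨g, mem_nonZeroDivisors_of_ne_zero hg0, rfl⟩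
  haveI := h𝔔
  exact false_of_prime k ξ b hspanD hbound (𝔔.comap (Ideal.Quotient.mk J))
    (fun z hz => by
      show Ideal.Quotient.mk J z ∈ 𝔔
      rw [Ideal.Quotient.eq_zero_iff_mem.2 (Ideal.subset_span hz)]
      exact zero_mem _) h𝔔0

/-- The generic hyperplane is transversal. -/
theorem exists_poly_transversal {A : Type u} [CommRing A] [Algebra k A] {n r : ℕ} (x : Fin n → A)
    (hx : Function.Surjective (MvPolynomial.aeval x : MvPolynomial (Fin n) k →ₐ[k] A))
    (hdim : ∀ P ∈ minimalPrimes A, ringKrullDim (A ⧸ P) = r) (f : A) [Algebra.IsStandardSmooth k (Localization.Away f)]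
    [Nontrivial (Localization.Away f)] :
    ∃ (b : Basis (Fin r) (Localization.Away f) Ω[Localization.Away f⁄k]) (g : MvPolynomial (Fin (n + 1)) k), g ≠ 0 ∧
      ∀ a : Fin (n + 1) → k, MvPolynomial.eval a g ≠ 0 → ∀ Q : Ideal (Localization.Away f), Q.IsPrime →
        algebraMap A (Localization.Away f) (algebraMap k A (a 0) + ∑ i : Fin n, algebraMap k A (a i.succ) * x i) ∈ Q →
        ∃ l, b.repr (D k (Localization.Away f)
          (algebraMap A (Localization.Away f) (algebraMap k A (a 0) + ∑ i : Fin n, algebraMap k A (a i.succ) * x i))) l ∉ Q := by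
  classical
  haveI : Algebra.FiniteType k A := Algebra.FiniteType.of_surjective _ hx
  haveI : IsNoetherianRing A := Algebra.FiniteType.isNoetherianRing k A
  let T := Localization.Away f
  let b' := Module.finBasis T Ω[T⁄k]
  let m := Module.finrank T Ω[T⁄k]
  -- dimensions
  have hbound : ∀ P : Ideal T, P.IsPrime → Algebra.trdeg k (T ⧸ P) ≤ (r : Cardinal) := by
    intro P hP
    let p := P.comap (algebraMap A T)
    haveI : p.IsPrime := Ideal.IsPrime.comap _
    have hfp : f ∉ p := fun h => hP.ne_top (Ideal.eq_top_of_isUnit_mem _ h (IsLocalization.Away.algebraMap_isUnit f))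
    obtain ⟨e, he⟩ := DimFormulaLib.exists_nat_trdeg_quotient k A p
    obtain ⟨P', _, hc, hP'⟩ := DimFormulaLib.trdeg_away k A hfp he
    have : P' = P := by
      rw [← IsLocalization.map_under (Submonoid.powers f) T P', ← IsLocalization.map_under (Submonoid.powers f) T P]
      exact congrArg _ hc
    subst this
    obtain ⟨p₀, hp₀, hle⟩ := Ideal.exists_minimalPrimes_le (I := (⊥ : Ideal A)) (J := p) bot_le
    haveI : p₀.IsPrime := hp₀.1.1
    obtain ⟨e₀, he₀⟩ := DimFormulaLib.exists_nat_trdeg_quotient k A p₀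
    have hr := (DimFormulaLib.ringKrullDim_eq_trdeg k e₀ he₀).symm.trans (hdim p₀ hp₀)
    have her : e₀ = r := by exact_mod_cast hr
    have := trdeg_le_of_surjective (R := k) (Ideal.Quotient.factorₐ k hle) (Ideal.Quotient.factor_surjective hle)
    rw [hP', ← he, ← her, ← he₀]
    exact this
  obtain ⟨Mx, hMx⟩ := Ideal.exists_maximal T
  haveI := hMx.isPrime
  obtain ⟨P₁, hP₁, -⟩ := Ideal.exists_minimalPrimes_le (I := (⊥ : Ideal T)) (J := Mx) bot_le
  have hmr : m = r := by
    haveI : P₁.IsPrime := hP₁.1.1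
    let p := P₁.comap (algebraMap A T)
    haveI : p.IsPrime := Ideal.IsPrime.comap _
    have hfp : f ∉ p := fun h => hP₁.1.1.ne_top (Ideal.eq_top_of_isUnit_mem _ h (IsLocalization.Away.algebraMap_isUnit f))
    have hpmin : p ∈ minimalPrimes A := by
      refine ⟨⟨inferInstance, bot_le⟩, fun q hq hqp => ?_⟩
      haveI : q.IsPrime := hq.1
      have hd : Disjoint (Submonoid.powers f : Set A) q := Set.disjoint_left.2 fun y ⟨i, hi⟩ hy => hfp
        (hqp (hq.1.mem_of_pow_mem i (show f ^ i ∈ q by rwa [show f ^ i = y from hi])))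
      have hle : q.map (algebraMap A T) ≤ P₁ := Ideal.map_le_iff_le_comap.2 hqp
      have := hP₁.2 ⟨IsLocalization.isPrime_of_isPrime_disjoint _ _ q inferInstance hd, bot_le⟩ hle
      rw [← IsLocalization.under_map_of_isPrime_disjoint (Submonoid.powers f) T (I := q) inferInstance hd]
      exact Ideal.comap_mono this
    obtain ⟨e, he⟩ := DimFormulaLib.exists_nat_trdeg_quotient k A p
    obtain ⟨P', _, hc, hP'⟩ := DimFormulaLib.trdeg_away k A hfp he
    have : P' = P₁ := by
      rw [← IsLocalization.map_under (Submonoid.powers f) T P', ← IsLocalization.map_under (Submonoid.powers f) T P₁]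
      exact congrArg _ hc
    subst this
    rw [trdeg_minimal k b' _ hP₁] at hP'
    have hr := (DimFormulaLib.ringKrullDim_eq_trdeg k e he).symm.trans (hdim p hpmin)
    have her : e = r := by exact_mod_cast hr
    exact (by exact_mod_cast hP'.trans (congrArg _ her) : m = r)
  let b : Basis (Fin r) T Ω[T⁄k] := b'.reindex (finCongr hmr)
  let ξ : Fin n → T := fun i => algebraMap A T (x i)
  -- the differentials of the coordinates span
  have hspanD : ∀ w : Ω[T⁄k], w ∈ Submodule.span T (Set.range fun i => D k T (ξ i)) := by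
    let N := Submodule.span T (Set.range fun i => D k T (ξ i))
    have hA : ∀ y : A, D k T (algebraMap A T y) ∈ N := fun y => by
      obtain ⟨p, rfl⟩ := hx y
      induction p using MvPolynomial.induction_on with
      | C c => simp [← IsScalarTower.algebraMap_apply k A T]
      | add p q hp hq => simp only [map_add]; exact add_mem hp hq
      | mul_X p i hp =>
        simp only [map_mul, MvPolynomial.aeval_X, Derivation.leibniz]
        exact add_mem (Submodule.smul_mem _ _ (Submodule.subset_span ⟨i, rfl⟩)) (Submodule.smul_mem _ _ hp)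
    intro w
    have hw : w ∈ Submodule.span T (Set.range (D k T)) := KaehlerDifferential.span_range_derivation k T ▸ trivial
    refine (Submodule.span_le.2 ?_ : Submodule.span T (Set.range (D k T)) ≤ N) hw
    rintro _ ⟨z, rfl⟩
    obtain ⟨⟨y, s⟩, hys⟩ := IsLocalization.surj (Submonoid.powers f) z
    have hu : IsUnit (algebraMap A T s) := IsLocalization.map_units T s
    have h1 : D k T (z * algebraMap A T s) ∈ N := hys ▸ hA y
    rw [Derivation.leibniz] at h1
    have h2 : algebraMap A T (s : A) • D k T z ∈ N := (N.add_mem_iff_right (Submodule.smul_mem _ _ (hA s))).1 h1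
    exact (Submodule.smul_mem_iff_of_isUnit N hu).1 h2
  -- the incidence ideal
  let L : MvPolynomial (Fin (n + 1)) T := MvPolynomial.X 0 + ∑ i : Fin n, MvPolynomial.C (ξ i) * MvPolynomial.X i.succ
  let cl : Fin r → MvPolynomial (Fin (n + 1)) T := fun l => ∑ i : Fin n, MvPolynomial.C (b.repr (D k T (ξ i)) l) * MvPolynomial.X i.succ
  let J : Ideal (MvPolynomial (Fin (n + 1)) T) := Ideal.span (insert L (Set.range cl))
  let ι₀ : MvPolynomial (Fin (n + 1)) k →+* MvPolynomial (Fin (n + 1)) T := MvPolynomial.map (algebraMap k T)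
  have hex : ∃ g, g ≠ 0 ∧ ι₀ g ∈ J := by
    exact exists_mem_incidence k ξ b hspanD hbound
  obtain ⟨g, hg0, hgJ⟩ := hex
  refine ⟨b, g, hg0, fun a ha Q hQ hℓ => ?_⟩
  by_contra hcon
  push Not at hcon
  let evA : MvPolynomial (Fin (n + 1)) T →+* T := MvPolynomial.eval₂Hom (RingHom.id T) fun i => algebraMap k T (a i)
  have hL : evA L = algebraMap A T (algebraMap k A (a 0) + ∑ i : Fin n, algebraMap k A (a i.succ) * x i) := by
    simp [evA, L, ξ, ← IsScalarTower.algebraMap_apply k A T, mul_comm]
  have hc : ∀ l, evA (cl l) = b.repr (D k T (algebraMap A T (algebraMap k A (a 0) + ∑ i : Fin n, algebraMap k A (a i.succ) * x i))) l := by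
    intro l
    simp [evA, cl, ξ, ← IsScalarTower.algebraMap_apply k A T, mul_comm]
    refine Finset.sum_congr rfl fun c _ => ?_
    rw [← algebraMap_smul T (a c.succ), map_smul, Finsupp.smul_apply, smul_eq_mul]
  have hmem : evA (ι₀ g) ∈ Q := by
    have hle : J ≤ Q.comap evA := by
      refine Ideal.span_le.2 ?_
      rintro z (rfl | ⟨l, rfl⟩)
      · show evA L ∈ Q
        rw [hL]; exact hℓ
      · show evA (cl l) ∈ Q
        rw [hc]; exact hcon l
    exact hle hgJ
  have he : evA (ι₀ g) = algebraMap k T (MvPolynomial.eval a g) := by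
    have : evA.comp ι₀ = (algebraMap k T).comp (MvPolynomial.eval a) :=
      MvPolynomial.ringHom_ext (fun c => by simp [evA, ι₀]) (fun i => by simp [evA, ι₀])
    exact RingHom.congr_fun this g
  rw [he] at hmem
  exact hQ.ne_top (Ideal.eq_top_of_isUnit_mem _ hmem ((IsUnit.mk0 _ ha).map _))

theorem bertini {A : Type u} [CommRing A] [Algebra k A] {n r : ℕ} (x : Fin n → A)
    (hx : Function.Surjective (MvPolynomial.aeval x : MvPolynomial (Fin n) k →ₐ[k] A))
    (hdim : ∀ P ∈ minimalPrimes A, ringKrullDim (A ⧸ P) = r) :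
    ∃ g : MvPolynomial (Fin (n + 1)) k, g ≠ 0 ∧
      ∀ a : Fin (n + 1) → k, MvPolynomial.eval a g ≠ 0 →
        ∀ (q : Ideal (A ⧸ Ideal.span {algebraMap k A (a 0) + ∑ i : Fin n, algebraMap k A (a i.succ) * x i}))
          (_ : q.IsPrime),
          (∃ f : A, f ∉ q.comap (Ideal.Quotient.mk _) ∧
            Smooth (Spec.map (CommRingCat.ofHom (algebraMap k (Localization.Away f))))) →
          ∃ f : A ⧸ Ideal.span {algebraMap k A (a 0) + ∑ i : Fin n, algebraMap k A (a i.succ) * x i},
            f ∉ q ∧ SmoothOfRelativeDimension (r - 1)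
              (Spec.map (CommRingCat.ofHom (algebraMap k (Localization.Away f)))) := by
  classical
  haveI : Algebra.FiniteType k A := Algebra.FiniteType.of_surjective _ hx
  haveI : IsNoetherianRing A := Algebra.FiniteType.isNoetherianRing k A
  haveI : Algebra.FinitePresentation k A := Algebra.FinitePresentation.of_finiteType.1 inferInstance
  let S : Set A := {f | Algebra.IsStandardSmooth k (Localization.Away f) ∧ Nontrivial (Localization.Away f)}
  obtain ⟨s, hsS, hspan⟩ := (Submodule.fg_span_iff_fg_span_finset_subset (R := A) S).1 (IsNoetherian.noetherian (Submodule.span A S))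
  have hdata : ∀ f : s, ∃ (b : Basis (Fin r) (Localization.Away (f : A)) Ω[Localization.Away (f : A)⁄k])
      (g : MvPolynomial (Fin (n + 1)) k), g ≠ 0 ∧
      ∀ a : Fin (n + 1) → k, MvPolynomial.eval a g ≠ 0 → ∀ Q : Ideal (Localization.Away (f : A)), Q.IsPrime →
        algebraMap A (Localization.Away (f : A)) (algebraMap k A (a 0) + ∑ i : Fin n, algebraMap k A (a i.succ) * x i) ∈ Q →
        ∃ l, b.repr (D k (Localization.Away (f : A))
          (algebraMap A (Localization.Away (f : A)) (algebraMap k A (a 0) + ∑ i : Fin n, algebraMap k A (a i.succ) * x i))) l ∉ Q :=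
    fun f => by
      obtain ⟨h1, h2⟩ := hsS f.2
      haveI := h1; haveI := h2
      exact exists_poly_transversal k x hx hdim (f : A)
  choose b g hg0 hg using hdata
  refine ⟨∏ f, g f, Finset.prod_ne_zero_iff.2 fun f _ => hg0 f, fun a ha q hq hsm => ?_⟩
  let ℓ := algebraMap k A (a 0) + ∑ i : Fin n, algebraMap k A (a i.succ) * x i
  let mk := Ideal.Quotient.mk (Ideal.span {ℓ})
  let p := q.comap mk
  haveI : p.IsPrime := Ideal.IsPrime.comap _
  -- a standard smooth chart among the finitely many
  obtain ⟨f₀, hf₀, hsm₀⟩ := hsm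
  haveI : Algebra.Smooth k (Localization.Away f₀) := by
    rw [HasRingHomProperty.Spec_iff (P := @Smooth)] at hsm₀
    exact RingHom.smooth_algebraMap.1 hsm₀
  haveI : Algebra.IsSmoothAt k p :=
    Algebra.basicOpen_subset_smoothLocus_iff_smooth.2 ‹_› (show (⟨p, inferInstance⟩ : PrimeSpectrum A) ∈ PrimeSpectrum.basicOpen f₀ from hf₀)
  obtain ⟨f₁, hf₁, hf₁s⟩ := Algebra.IsSmoothAt.exists_notMem_isStandardSmooth k p
  have hf₁S : f₁ ∈ S := ⟨hf₁s, by
    obtain ⟨P', hP', -⟩ := DimFormulaLib.trdeg_away k A hf₁ (DimFormulaLib.exists_nat_trdeg_quotient k A p).choose_spec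
    exact ⟨0, 1, fun h => hP'.ne_top ((Ideal.eq_top_iff_one P').2 (h ▸ P'.zero_mem))⟩⟩
  obtain ⟨f, hfs, hfp⟩ : ∃ f ∈ s, f ∉ p := by
    by_contra hcon
    push Not at hcon
    exact hf₁ (((hspan.le.trans (Submodule.span_le.2 hcon : Submodule.span A (s : Set A) ≤ p)) (Submodule.subset_span hf₁S)))
  let T := Localization.Away f
  haveI : Algebra.IsStandardSmooth k T := (hsS hfs).1
  have hd : Disjoint (Submonoid.powers f : Set A) p := Set.disjoint_left.2 fun y ⟨i, hi⟩ hy => hfp
    (‹p.IsPrime›.mem_of_pow_mem i (show f ^ i ∈ p by rwa [show f ^ i = y from hi]))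
  let Q := p.map (algebraMap A T)
  haveI : Q.IsPrime := IsLocalization.isPrime_of_isPrime_disjoint _ _ p inferInstance hd
  have hℓp : ℓ ∈ p := by
    show mk ℓ ∈ q
    rw [Ideal.Quotient.eq_zero_iff_mem.2 (Ideal.subset_span (Set.mem_singleton ℓ))]
    exact zero_mem _
  have hga : MvPolynomial.eval a (g ⟨f, hfs⟩) ≠ 0 := by
    rw [map_prod] at ha
    exact Finset.prod_ne_zero_iff.1 ha _ (Finset.mem_univ _)
  obtain ⟨l, hl⟩ := hg ⟨f, hfs⟩ a hga Q inferInstance (Ideal.mem_map_of_mem _ hℓp)
  obtain ⟨r', rfl⟩ : ∃ r', r = r' + 1 := ⟨r - 1, by have := l.2; omega⟩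
  have hne : (1 : Q.ResidueField) ⊗ₜ[T] D k T (algebraMap A T ℓ) ≠ 0 := by
    intro h0
    have h2 := congrArg (fun z => ((b ⟨f, hfs⟩).baseChange Q.ResidueField).repr z l) h0
    erw [Basis.baseChange_repr_tmul, map_zero] at h2
    rw [Algebra.smul_def, mul_one, Finsupp.zero_apply] at h2
    exact hl (Ideal.algebraMap_residueField_eq_zero.1 h2)
  obtain ⟨c, hcQ, hstd⟩ := exists_smooth_section k (b ⟨f, hfs⟩) Q (algebraMap A T ℓ) hne
  let c' := (IsLocalization.Away.sec f c).1
  let U := Localization.Away c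
  haveI : IsLocalization.Away (f * c') U :=
    .mul_of_associated _ _ c <| IsLocalization.Away.associated_sec_fst f c
  have hc' : c' ∉ p := fun h => hcQ (by
    rw [Ideal.mem_iff_of_associated (IsLocalization.Away.associated_sec_fst f c).symm]
    exact Ideal.mem_map_of_mem _ h)
  refine ⟨mk (f * c'), fun h => ?_, ?_⟩
  · exact (‹p.IsPrime›.mem_or_mem (show f * c' ∈ p from h)).elim hfp hc'
  · let U' := U ⧸ Ideal.span {algebraMap T U (algebraMap A T ℓ)}
    have hmapspan : (Ideal.span {ℓ}).map (algebraMap A U) = Ideal.span {algebraMap T U (algebraMap A T ℓ)} := by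
      rw [Ideal.map_span, Set.image_singleton, IsScalarTower.algebraMap_apply A T U]
    letI : Algebra (A ⧸ Ideal.span {ℓ}) U' :=
      RingHom.toAlgebra (R := A ⧸ Ideal.span {ℓ}) (S := U') (Ideal.quotientMap (Ideal.span {algebraMap T U (algebraMap A T ℓ)}) (algebraMap A U)
        (Ideal.map_le_iff_le_comap.1 hmapspan.le))
    haveI : IsScalarTower k (A ⧸ Ideal.span {ℓ}) U' := IsScalarTower.of_algebraMap_eq fun a => by
      show Ideal.Quotient.mk _ (algebraMap k U a) = Ideal.Quotient.mk _ (algebraMap A U (algebraMap k A a))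
      exact congrArg _ (IsScalarTower.algebraMap_apply k A U a)
    haveI : IsLocalization (Submonoid.powers (mk (f * c'))) U' := by
      let g' : U →+* U' := Ideal.Quotient.mk (Ideal.span {algebraMap T U (algebraMap A T ℓ)})
      have hg' : Function.Surjective g' := Ideal.Quotient.mk_surjective
      have hH : g'.comp (algebraMap A U) = (algebraMap (A ⧸ Ideal.span {ℓ}) U').comp mk := by
        refine RingHom.ext fun y => ?_
        simp only [RingHom.comp_apply]
        exact (Ideal.quotientMap_mk (f := algebraMap A U) (J := Ideal.span {ℓ})).symm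
      have hK : RingHom.ker g' ≤ (RingHom.ker mk).map (algebraMap A U) := by
        rw [show RingHom.ker g' = _ from Ideal.mk_ker, show RingHom.ker mk = _ from Ideal.mk_ker, hmapspan]
      have h := IsLocalization.of_surjective (R' := A ⧸ Ideal.span {ℓ}) (S' := U') (Submonoid.powers (f * c')) U mk Ideal.Quotient.mk_surjective g' hg' hH hK
      rwa [Submonoid.map_powers] at h
    let e : U' ≃ₐ[A ⧸ Ideal.span {ℓ}] Localization.Away (mk (f * c')) :=
      IsLocalization.algEquiv (Submonoid.powers (mk (f * c'))) _ _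
    have hfin : Algebra.IsStandardSmoothOfRelativeDimension r' k (Localization.Away (mk (f * c'))) :=
      haveI := hstd
      Algebra.IsStandardSmoothOfRelativeDimension.of_algEquiv (R := k) (S := U') r' (T := Localization.Away (mk (f * c'))) (e.restrictScalars k)
    rw [show r' + 1 - 1 = r' by omega, HasRingHomProperty.Spec_iff (P := @SmoothOfRelativeDimension r')]
    exact RingHom.locally_of RingHom.isStandardSmoothOfRelativeDimension_respectsIso _
      ((RingHom.isStandardSmoothOfRelativeDimension_algebraMap _).2 hfin)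

end Groth.Agent.BertiniAff
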